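import Mathlib

namespace Groth.Agent.Fpqc93

open CategoryTheory CategoryTheory.Limits AlgebraicGeometry TopologicalSpace

universe w w' u

theorem mem_fpqcPrecoverage_iff {T : Scheme.{u}} (E : PreZeroHypercover.{w} T) :
    E.presieve₀ ∈ Scheme.fpqcPrecoverage T ↔
      QuasiCompactCover E ∧ (∀ x, ∃ i, x ∈ Set.range (E.f i)) ∧ ∀ i, Flat (E.f i) := by
  rw [← Scheme.presieve₀_mem_qcPrecoverage_iff, ← Scheme.presieve₀_mem_precoverage_iff (P := @Flat) E]
  rfl

theorem isCompactOpenCovered_sigma {T : Scheme.{u}} (E : PreZeroHypercover.{u} T) (U : Set T) :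
    IsCompactOpenCovered (E.f ·) U ↔
      ∃ V : (∐ E.X).Opens, IsCompact (V : Set ↥(∐ E.X)) ∧ Sigma.desc E.f '' (V : Set ↥(∐ E.X)) = U := by
  rw [IsCompactOpenCovered.iff_isCompactOpenCovered_sigmaMk, IsCompactOpenCovered.iff_of_unique]
  let e := sigmaMk E.X
  have he : ∀ p : Σ i, E.X i, Sigma.desc E.f (e p) = E.f p.1 p.2 := by
    rintro ⟨i, x⟩
    rw [show e ⟨i, x⟩ = Sigma.ι E.X i x from sigmaMk_mk _ _ _, ← Scheme.Hom.comp_apply,
      Sigma.ι_desc]
  constructor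
  · rintro ⟨V, hV, rfl⟩
    refine ⟨⟨e '' V, e.isOpenMap _ V.2⟩, hV.image e.continuous, ?_⟩
    show Sigma.desc E.f '' (e '' _) = _
    rw [Set.image_image]
    exact Set.image_congr fun p _ => he p
  · rintro ⟨V, hV, rfl⟩
    refine ⟨⟨e ⁻¹' V, V.2.preimage e.continuous⟩, e.isCompact_preimage.2 hV, ?_⟩
    show (fun p : Σ i, E.X i => E.f p.1 p.2) '' (e ⁻¹' V) = _
    rw [← funext he, ← Set.image_image (Sigma.desc E.f) e, Set.image_preimage_eq _ e.surjective]

theorem quasiCompactCover_sigmaDesc_iff {T : Scheme.{u}} (E : PreZeroHypercover.{u} T) :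
    QuasiCompactCover (PreZeroHypercover.singleton.{u} (Sigma.desc E.f)) ↔ QuasiCompactCover E := by
  rw [quasiCompactCover_iff, quasiCompactCover_iff]
  refine forall_congr' fun U => forall_congr' fun _ => ?_
  rw [isCompactOpenCovered_sigma E]
  haveI : Unique (PreZeroHypercover.singleton.{u} (Sigma.desc E.f)).I₀ :=
    inferInstanceAs (Unique PUnit)
  rw [IsCompactOpenCovered.iff_of_unique]
  rfl

/-- A family refined (over the identity) by a jointly surjective one is jointly surjective. -/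
theorem surjective_of_hom {T : Scheme.{u}} {E : PreZeroHypercover.{w} T}
    {F : PreZeroHypercover.{w'} T} (φ : F.Hom E)
    (h : ∀ x, ∃ i, x ∈ Set.range (F.f i)) : ∀ x, ∃ i, x ∈ Set.range (E.f i) := by
  intro x
  obtain ⟨i, y, rfl⟩ := h x
  exact ⟨φ.s₀ i, φ.h₀ i y, by rw [← Scheme.Hom.comp_apply, φ.w₀]⟩

theorem quasiCompactCover_bind {T : Scheme.{u}} (𝒰 : PreZeroHypercover.{w} T) [QuasiCompactCover 𝒰]
    (f : ∀ x : 𝒰.I₀, PreZeroHypercover.{w'} (𝒰.X x)) [∀ x, QuasiCompactCover (f x)] :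
    QuasiCompactCover (𝒰.bind f) where
  isCompactOpenCovered_of_isAffineOpen {U} hU := by
    obtain ⟨n, a, V, hV, heq⟩ := QuasiCompactCover.exists_isAffineOpen_of_isCompact 𝒰 hU.isCompact
    choose m b W hW hWeq using fun k =>
      QuasiCompactCover.exists_isAffineOpen_of_isCompact (f (a k)) (hV k).isCompact
    refine .of_finite (κ := Σ k : Fin n, Fin (m k)) (fun p => ⟨a p.1, b p.1 p.2⟩) (fun p => W p.1 p.2)
      (fun p => (hW p.1 p.2).isCompact) ?_
    rw [← heq, Set.iUnion_sigma]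
    refine Set.iUnion_congr fun k => ?_
    rw [← hWeq k, Set.image_iUnion]
    refine Set.iUnion_congr fun l => ?_
    rw [Set.image_image]
    rfl

theorem quasiCompactCover_iff_nhds {T : Scheme.{u}} [QuasiSeparatedSpace T]
    (E : PreZeroHypercover.{w} T) :
    QuasiCompactCover E ↔ ∀ t : T, ∃ (n : ℕ) (i : Fin n → E.I₀) (V : ∀ j, (E.X (i j)).Opens),
      (∀ j, IsCompact (V j : Set (E.X (i j)))) ∧
        (⋃ j, ⇑(E.f (i j)) '' (V j : Set (E.X (i j)))) ∈ nhds t := by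
  constructor
  · intro h t
    obtain ⟨U, hU, htU, -⟩ := Opens.isBasis_iff_nbhd.1 T.isBasis_affineOpens (Opens.mem_top t)
    obtain ⟨n, i, V, hV, heq⟩ := QuasiCompactCover.exists_isAffineOpen_of_isCompact E hU.isCompact
    exact ⟨n, i, V, fun j => (hV j).isCompact, by rw [heq]; exact U.2.mem_nhds htU⟩
  · intro h
    refine ⟨fun {U} hU => .of_isCompact_of_forall_exists_isCompactOpenCovered hU.isCompact
      fun x hx => ?_⟩
    obtain ⟨n, i, V, hV, hnh⟩ := h x
    obtain ⟨W, hWle, hWo, hxW⟩ := mem_nhds_iff.1 hnh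
    obtain ⟨A, hA, hxA, hAle⟩ := Opens.isBasis_iff_nbhd.1 T.isBasis_affineOpens
      (show x ∈ U ⊓ ⟨W, hWo⟩ from ⟨hx, hxW⟩)
    refine ⟨A, fun y hy => (hAle hy).1, hxA, A.2,
      .of_finite i (fun j => V j ⊓ E.f (i j) ⁻¹ᵁ A) (fun j => ?_) ?_⟩
    · haveI : CompactSpace ↥((V j : (E.X (i j)).Opens) : Scheme.{u}) :=
        isCompact_iff_compactSpace.1 (hV j)
      have hc := ((V j).ι ≫ E.f (i j)).isCompact_preimage hA.isCompact
      have := hc.image (V j).ι.continuous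
      convert this using 1
      ext y
      constructor
      · rintro ⟨hy, hy'⟩
        exact ⟨⟨y, hy⟩, hy', rfl⟩
      · rintro ⟨z, hz, rfl⟩
        exact ⟨z.2, hz⟩
    · refine subset_antisymm (Set.iUnion_subset fun j => ?_) fun y hy => ?_
      · rintro _ ⟨z, hz, rfl⟩
        exact hz.2
      · obtain ⟨j, z, hz, rfl⟩ := Set.mem_iUnion.1 (hWle (hAle hy).2)
        exact Set.mem_iUnion.2 ⟨j, z, ⟨hz, hy⟩, rfl⟩

end Groth.Agent.Fpqc93
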